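import Groth.Agent.H9Misc.GenPushHom
import Groth.Agent.KFlatLib.Scheme.Exact

/-! A push-forward mapping to `F^m`, `m` the generic degree, isomorphically near the generic point. -/

set_option linter.style.haveILetI false
set_option linter.unusedSectionVars false
set_option backward.isDefEq.respectTransparency false
set_option backward.isDefEq.respectTransparency.types false

universe u

open CategoryTheory CategoryTheory.Limits AlgebraicGeometry TopologicalSpace

noncomputable section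

namespace Groth.Agent.CohGenIso5

open Groth.Agent H9Misc.GenPushFree H9Misc.GenPushHom

theorem isIso_restrict_of_stalk {X : Scheme.{u}} (U : X.Opens) {A B : X.Modules} (g : A ⟶ B)
    (h : ∀ x ∈ U, Function.Bijective ((DerSch.stalkFunctor X x).map g).hom) :
    IsIso ((Scheme.Modules.restrictFunctor U.ι).map g) := by
  refine KFlatLib.isIso_of_stalk _ fun u => ?_
  have hsq := (Scheme.Modules.restrictStalkNatIso U.ι u).hom.naturality g
  haveI : IsIso ((Scheme.Modules.toPresheaf X ⋙ TopCat.Presheaf.stalkFunctor _ (U.ι.base u)).map g) :=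
    (ConcreteCategory.isIso_iff_bijective _).2 (h _ u.2)
  haveI : IsIso ((Scheme.Modules.restrictFunctor U.ι ⋙ Scheme.Modules.toPresheaf _ ⋙
      TopCat.Presheaf.stalkFunctor _ u).map g) := IsIso.of_isIso_fac_right hsq
  exact (ConcreteCategory.isIso_iff_bijective _).2 (ConcreteCategory.bijective_of_isIso
    ((Scheme.Modules.restrictFunctor U.ι ⋙ Scheme.Modules.toPresheaf _ ⋙
      TopCat.Presheaf.stalkFunctor _ u).map g))

variable {X Y : Scheme.{u}} [IsIntegral X] [IsNoetherian X] [IsIntegral Y] [IsNoetherian Y]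
  (f : X ⟶ Y) [IsFinite f] [Surjective f]

theorem exists_push_hom (F : Y.Modules) (hF : Coh.IsCoh F) :
    ∃ (G : X.Modules) (β : (Scheme.Modules.pushforward f).obj G ⟶
        ∐ fun _ : ULift.{u} (Fin (Module.finrank (Y.presheaf.stalk (genericPoint Y))
          ((DerSch.stalkFunctor Y (genericPoint Y)).obj
            ((Scheme.Modules.pushforward f).obj (Coh.structureModule X))))) => F),
      Coh.IsCoh G ∧ ∃ V : Y.Opens, genericPoint Y ∈ V ∧
        IsIso ((Scheme.Modules.restrictFunctor V.ι).map β) := by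
  let η := genericPoint Y
  let G₀ := (Scheme.Modules.pushforward f).obj (Coh.structureModule X)
  have hG₀ : Coh.IsCoh G₀ := QCoh.isCoh_pushforward_finite f QCoh.isCoh_structureModule'
  letI : Field (Y.presheaf.stalk η) := inferInstanceAs (Field Y.functionField)
  haveI : Module.Finite (Y.presheaf.stalk η) ((DerSch.stalkFunctor Y η).obj G₀) :=
    QCoh.finite_stalk_of_isFT hG₀.1 hG₀.2 η
  haveI : Module.Finite (Y.presheaf.stalk η) ((DerSch.stalkFunctor Y η).obj F) :=
    QCoh.finite_stalk_of_isFT hF.1 hF.2 η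
  let r := Module.finrank (Y.presheaf.stalk η) ((DerSch.stalkFunctor Y η).obj G₀)
  let m := Module.finrank (Y.presheaf.stalk η) ((DerSch.stalkFunctor Y η).obj F)
  let M := FlatMod.freeMod X m
  have hM : Coh.IsCoh M := CurveDeg.isCoh_of_isFinLocFree (GenusOneSS.isFinLocFree_freeMod m)
  let A := (Scheme.Modules.pushforward f).obj M
  let B := ∐ fun _ : ULift.{u} (Fin r) => F
  have hA : Coh.IsCoh A := QCoh.isCoh_pushforward_finite f hM
  have hB : Coh.IsCoh B := H23.LocFinCoprod.isCoh_coprod (H23.LocFinCoprod.lf_of_finite _) fun _ => hF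
  haveI : (Scheme.Modules.pushforward f).Additive :=
    (Scheme.Modules.pullbackPushforwardAdjunction f).right_adjoint_additive
  have hrank : Module.finrank (Y.presheaf.stalk η) (A.presheaf.stalk η) =
      Module.finrank (Y.presheaf.stalk η) (B.presheaf.stalk η) := by
    refine (finrank_stalk_map_coprod (Scheme.Modules.pushforward f) η m).trans ?_
    refine Eq.trans ?_ (finrank_stalk_coprod F η r).symm
    exact Nat.mul_comm _ _
  obtain ⟨WA, a, hηA, ⟨eA⟩⟩ := QCoh.exists_free_nhd_of_free_stalk (KZ.LFRes.isFP_of_isCoh hA) η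
  obtain ⟨WB, b, hηB, ⟨eB⟩⟩ := QCoh.exists_free_nhd_of_free_stalk (KZ.LFRes.isFP_of_isCoh hB) η
  obtain ⟨_, ⟨V₀, hV, rfl⟩, hηV, hle⟩ :=
    Y.isBasis_affineOpens.exists_subset_of_mem_open (show η ∈ WA ⊓ WB from ⟨hηA, hηB⟩) (WA ⊓ WB).2
  let V : Y.Opens := V₀
  have hV' : IsAffineOpen V := hV
  have hle' : V ≤ WA ⊓ WB := hle
  obtain ⟨lA⟩ := QCoh.free_sections hV' (hle'.trans inf_le_left) eA
  obtain ⟨lB⟩ := QCoh.free_sections hV' (hle'.trans inf_le_right) eB
  have hab : a = b :=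
    (QCoh.finrank_stalk_of_freeChart hV' hA.1 lA hηV).symm.trans
      (hrank.trans (QCoh.finrank_stalk_of_freeChart hV' hB.1 lB hηV))
  subst hab
  obtain ⟨iA⟩ := QCoh.exists_free_restrict hA.1 hV' lA
  obtain ⟨iB⟩ := QCoh.exists_free_restrict hB.1 hV' lB
  let θ := iA ≪≫ iB.symm
  let Q := (Scheme.Modules.pushforward V.ι).obj (B.restrict V.ι)
  have hQ : Coh.IsQCoh Q := QCoh.isQCoh_pushforward V.ι (QCoh.isQCoh_restrict V.ι hB.1)
  let φ : A ⟶ Q := Snapper.resMap V A ≫ (Scheme.Modules.pushforward V.ι).map θ.hom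
  have hφ : Function.Bijective (φ.app V) := by
    have h1 := Snapper.resMap_app_bijective V A (W := V) le_rfl
    have h2 : Function.Bijective (((Scheme.Modules.pushforward V.ι).map θ.hom).app V) :=
      ConcreteCategory.bijective_of_isIso _
    exact h2.comp h1
  let ψ := Snapper.resMap V B
  have hψ := Snapper.resMap_app_bijective V B (W := V) le_rfl
  obtain ⟨J, hmono, hιb⟩ := mono_of_stalk_bijective_and_kills hB hQ ψ hV' hψ.1
  let ι₁ := Dual3.idealMulι J B
  let ψ₁ := ι₁ ≫ ψ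
  haveI : Mono ψ₁ := hmono
  haveI : Mono ι₁ := inferInstanceAs (Mono (kernel.ι _))
  have hB₁ : Coh.IsCoh ((Dual3.idealMul J).obj B) := QCoh.isCoh_of_mono ι₁ hB (QCoh.isQCoh_idealMul J hB.1)
  have hC : Coh.IsQCoh (cokernel ψ₁) := QCoh.isQCoh_cokernel hB₁.1 hQ ψ₁
  let e := φ ≫ cokernel.π ψ₁
  have hK : Coh.IsQCoh (kernel e) := QCoh.isQCoh_kernel hA.1 hC e
  let p₁ := kernel.ι e
  let lc := Abelian.monoIsKernelOfCokernel (CokernelCofork.ofπ (cokernel.π ψ₁) (cokernel.condition ψ₁))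
    (cokernelIsCokernel ψ₁)
  have hz0 : (p₁ ≫ φ) ≫ cokernel.π ψ₁ = 0 := (Category.assoc _ _ _).trans (kernel.condition e)
  let p₂ : kernel e ⟶ (Dual3.idealMul J).obj B := lc.lift (KernelFork.ofι (p₁ ≫ φ) hz0)
  have hp₂ : p₂ ≫ ψ₁ = p₁ ≫ φ := lc.fac (KernelFork.ofι (p₁ ≫ φ) hz0) WalkingParallelPair.zero
  have hQ₂ : Coh.IsCoh (cokernel p₁) := QCoh.isCoh_cokernel hK hA p₁
  have hp₁ : ∀ x ∈ V, IsIso ((DerSch.stalkFunctor Y x).map p₁) ∧ IsIso ((DerSch.stalkFunctor Y x).map p₂) :=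
    fun x hx => by
    let Φ := DerSch.stalkFunctor Y x
    haveI hiφ : IsIso (Φ.map φ) := isIso_stalk_of_bijective hA.1 hQ φ hV' hφ hx
    haveI hiψ : IsIso (Φ.map ψ₁) := isIso_stalk_of_bijective hB₁.1 hQ ψ₁ hV' (hψ.comp hιb) hx
    have hS : (ShortComplex.mk p₁ e (kernel.condition e)).Exact :=
      ShortComplex.exact_of_f_is_kernel _ (kernelIsKernel e)
    have hzero : IsZero (Φ.obj (cokernel ψ₁)) :=
      Snapper.notMem_support_iff.1 (Snapper.notMem_support_cokernel ψ₁ (@IsIso.epi_of_iso _ _ _ _ _ hiψ))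
    haveI : Mono (Φ.map p₁) := inferInstance
    haveI : Epi (Φ.map p₁) := (hS.map Φ).epi_f (hzero.eq_of_tgt _ _)
    haveI hi1 : IsIso (Φ.map p₁) := isIso_of_mono_of_epi _
    have h : Φ.map p₂ ≫ Φ.map ψ₁ = Φ.map p₁ ≫ Φ.map φ := by rw [← Φ.map_comp, ← Φ.map_comp, hp₂]
    exact ⟨hi1, IsIso.of_isIso_fac_right h⟩
  have hz : Subsingleton Γ(cokernel p₁, V) := subsingleton_of_forall_eq 0 fun s =>
    TopCat.Presheaf.section_ext ⟨(cokernel p₁).presheaf, (cokernel p₁).isSheaf⟩ V s 0 fun x hx => by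
      haveI := (hp₁ x hx).1
      haveI : Subsingleton ((cokernel p₁).presheaf.stalk x) :=
        not_not.1 (Snapper.notMem_support_cokernel p₁ (@IsIso.epi_of_iso _ _ _ _ _ (hp₁ x hx).1))
      exact Subsingleton.elim _ _
  obtain ⟨G, i, hG, hzero, hib⟩ := exists_push_sub f M hM hQ₂ (cokernel.π p₁) hV' hz
  let pi := (Scheme.Modules.pushforward f).map i
  let L := (Abelian.monoIsKernelOfCokernel (CokernelCofork.ofπ (cokernel.π p₁) (cokernel.condition p₁))
    (cokernelIsCokernel p₁)).lift (KernelFork.ofι pi hzero)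
  have hL : L ≫ p₁ = pi :=
    (Abelian.monoIsKernelOfCokernel (CokernelCofork.ofπ (cokernel.π p₁) (cokernel.condition p₁))
      (cokernelIsCokernel p₁)).fac (KernelFork.ofι pi hzero) WalkingParallelPair.zero
  refine ⟨G, L ≫ p₂ ≫ ι₁, hG, V, hηV, isIso_restrict_of_stalk V _ fun x hx => ?_⟩
  let Φ := DerSch.stalkFunctor Y x
  haveI := (hp₁ x hx).1
  haveI := (hp₁ x hx).2
  haveI : IsIso (Φ.map pi) :=
    isIso_stalk_of_bijective (QCoh.isCoh_pushforward_finite f hG).1 hA.1 pi hV' hib hx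
  haveI : IsIso (Φ.map ι₁) := isIso_stalk_of_bijective hB₁.1 hB.1 ι₁ hV' hιb hx
  haveI : IsIso (Φ.map L) := by
    have h : Φ.map L ≫ Φ.map p₁ = Φ.map pi := by rw [← Φ.map_comp, hL]
    exact IsIso.of_isIso_fac_right h
  haveI : IsIso (Φ.map (L ≫ p₂ ≫ ι₁)) := by
    rw [Φ.map_comp, Φ.map_comp]
    infer_instance
  exact (ConcreteCategory.isIso_iff_bijective (Φ.map (L ≫ p₂ ≫ ι₁))).1 inferInstance

end Groth.Agent.CohGenIso5
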